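import Cfsg.Agent.Lib.R2.Chk

/-! # The search data for Lyons' theorem -/

set_option autoImplicit false

namespace Cfsg.Lib.R2.Chk

def ts3 : List (List ℤ × Ty) :=
  [([0,0,0],⟨[9,9,9],⟨[3,3],[27],0,false,67,109⟩⟩),
  ([0,0,0],⟨[1,9,-3],⟨[-3,1],[-3],0,false,97,79⟩⟩),
  ([0,0,0],⟨[4,4,-4],⟨[-2,2],[-8],0,false,82,78⟩⟩),
  ([0,0,0],⟨[4,4,4],⟨[2,2],[8],0,false,66,94⟩⟩),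
  ([0,0,0],⟨[49,1,-7],⟨[-1,7],[-49],0,false,71,89⟩⟩),
  ([0,0,0],⟨[25,1,5],⟨[1,5],[25],0,false,69,91⟩⟩),
  ([0,0,0],⟨[9,1,-3],⟨[-1,3],[-9],0,false,67,77⟩⟩),
  ([0,0,0],⟨[1,1,1],⟨[1,1],[1],0,false,65,79⟩⟩),
  ([0,-1,0],⟨[64,0,0],⟨[0,8],[0],0,false,72,88⟩⟩),
  ([0,-1,0],⟨[16,0,0],⟨[0,4],[0],0,false,68,76⟩⟩)]

def Λ3 : List (List ℤ) := [[1,0,0],[0,1,0],[1,1,2],[1,1,-2],[1,4,4],[1,4,-4],[1,9,6],[1,9,-6],[1,16,8],[1,16,-8]]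

def trs3 : List Tr :=
  [.br 1 (.br 2 (.leaf [-1,1] [1]) (.leaf [0,0] [100])) (.leaf [0,0] [10]),
  .leaf [0,0] [10],
  .leaf [0,0] [100],
  .leaf [0,0] [1000]]

theorem ok3 : (valid ts3 && ts3.all (fun x => decide (0 < dot [1,1,0] x.2.inv) && Λ3.all fun l => decide (0 ≤ dot l x.2.inv)) &&
    go Λ3 [1,1,0] (fun acc => trs3.any fun t => check 16 [1,1] [1] t acc) 40 ts3 [63,15,-1] []) = true := by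
  decide +kernel

def ts15 : List (List ℤ × Ty) :=
  [([0,0,0,0,0,0,0,0],⟨[0,0,16,0,0,4,0,8],⟨[0,-8,-4],[-36,72],0,false,115,77⟩⟩),
  ([0,0,0,0,0,0,0,0],⟨[0,0,16,0,0,0,0,0],⟨[0,-8,0],[0,512],0,false,104,88⟩⟩),
  ([0,0,0,0,0,0,0,0],⟨[4,12,12,4,8,36,12,36],⟨[-4,-12,-12],[-12,-4],0,false,241,79⟩⟩),
  ([0,0,0,0,0,0,0,0],⟨[4,12,12,4,8,16,8,24],⟨[-4,-12,-8],[-288,-144],0,false,166,90⟩⟩),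
  ([0,0,0,0,0,0,0,0],⟨[4,-12,12,4,8,4,-4,12],⟨[4,-12,-4],[-36,252],0,false,115,77⟩⟩),
  ([0,0,0,0,0,0,0,0],⟨[4,4,12,-4,0,4,4,4],⟨[-4,-4,-4],[-36,-108],0,false,115,77⟩⟩),
  ([0,0,0,0,0,0,0,0],⟨[4,4,12,4,-8,4,4,4],⟨[-4,-4,-4],[-36,-108],0,false,115,77⟩⟩),
  ([0,0,0,0,0,0,0,0],⟨[4,12,12,4,8,4,4,12],⟨[-4,-12,-4],[-484,-484],0,false,91,101⟩⟩),
  ([0,0,0,0,0,0,0,0],⟨[4,-12,12,4,8,0,0,0],⟨[4,-12,0],[0,1792],0,false,104,88⟩⟩),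
  ([0,0,0,0,0,0,0,0],⟨[4,4,12,-4,0,0,0,0],⟨[-4,-4,0],[0,-768],0,false,104,88⟩⟩),
  ([0,0,0,0,0,0,0,0],⟨[4,4,12,4,-8,0,0,0],⟨[-4,-4,0],[0,-768],0,false,104,88⟩⟩),
  ([0,0,0,0,0,0,0,0],⟨[4,12,12,4,8,0,0,0],⟨[-4,-12,0],[0,-1024],0,false,80,112⟩⟩),
  ([0,0,0,0,0,0,0,0],⟨[0,0,12,4,8,36,0,36],⟨[0,12,12],[108,-108],0,false,67,253⟩⟩),
  ([0,0,0,0,0,0,0,0],⟨[0,0,12,4,8,16,0,24],⟨[0,-12,-8],[-32,48],0,false,178,78⟩⟩),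
  ([0,0,0,0,0,0,0,0],⟨[0,0,12,-4,0,4,0,4],⟨[0,4,4],[4,-4],0,false,65,127⟩⟩),
  ([0,0,0,0,0,0,0,0],⟨[0,0,12,4,-8,4,0,4],⟨[0,4,4],[4,-4],0,false,65,127⟩⟩),
  ([0,0,0,0,0,0,0,0],⟨[0,0,12,4,8,4,0,12],⟨[0,-12,-4],[-196,588],0,false,103,89⟩⟩),
  ([0,0,0,0,0,0,0,0],⟨[0,0,12,-4,0,0,0,0],⟨[0,-4,0],[0,64],0,false,116,76⟩⟩),
  ([0,0,0,0,0,0,0,0],⟨[0,0,12,4,-8,0,0,0],⟨[0,-4,0],[0,64],0,false,116,76⟩⟩),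
  ([0,0,0,0,0,0,0,0],⟨[0,0,12,4,8,0,0,0],⟨[0,-12,0],[0,1728],0,false,92,100⟩⟩),
  ([0,0,0,0,0,0,0,0],⟨[4,8,8,0,4,36,12,24],⟨[4,8,12],[108,72],0,false,67,253⟩⟩),
  ([0,0,0,0,0,0,0,0],⟨[4,8,8,0,4,16,8,16],⟨[-4,-8,-8],[-32,-32],0,false,178,78⟩⟩),
  ([0,0,0,0,0,0,0,0],⟨[4,-8,8,0,4,4,-4,8],⟨[-4,8,4],[4,-24],0,false,65,127⟩⟩),
  ([0,0,0,0,0,0,0,0],⟨[4,0,8,-4,0,4,4,0],⟨[4,0,4],[4,16],0,false,65,127⟩⟩),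
  ([0,0,0,0,0,0,0,0],⟨[4,0,8,0,-4,4,4,0],⟨[4,0,4],[4,16],0,false,65,127⟩⟩),
  ([0,0,0,0,0,0,0,0],⟨[4,8,8,0,4,4,4,8],⟨[-4,-8,-4],[-196,-392],0,false,103,89⟩⟩),
  ([0,0,0,0,0,0,0,0],⟨[4,-8,8,0,4,0,0,0],⟨[4,-8,0],[0,384],0,false,116,76⟩⟩),
  ([0,0,0,0,0,0,0,0],⟨[4,0,8,-4,0,0,0,0],⟨[-4,0,0],[0,-256],0,false,116,76⟩⟩),
  ([0,0,0,0,0,0,0,0],⟨[4,0,8,0,-4,0,0,0],⟨[-4,0,0],[0,-256],0,false,116,76⟩⟩),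
  ([0,0,0,0,0,0,0,0],⟨[4,8,8,0,4,0,0,0],⟨[-4,-8,0],[0,-1152],0,false,92,100⟩⟩),
  ([0,0,0,0,0,0,0,0],⟨[0,0,8,0,4,16,0,16],⟨[0,8,8],[32,-32],0,false,66,190⟩⟩),
  ([0,0,0,0,0,0,0,0],⟨[0,0,8,-4,0,4,0,0],⟨[0,0,4],[100,0],0,false,117,139⟩⟩),
  ([0,0,0,0,0,0,0,0],⟨[0,0,8,0,-4,4,0,0],⟨[0,0,4],[100,0],0,false,117,139⟩⟩),
  ([0,0,0,0,0,0,0,0],⟨[0,0,8,0,4,4,0,-8],⟨[0,-8,4],[676,1352],0,false,93,163⟩⟩),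
  ([0,0,0,0,0,0,0,0],⟨[0,0,8,0,4,4,0,8],⟨[0,-8,-4],[-36,72],0,false,115,77⟩⟩),
  ([0,0,0,0,0,0,0,0],⟨[0,0,8,0,4,0,0,0],⟨[0,-8,0],[0,512],0,false,104,88⟩⟩),
  ([0,0,0,0,0,0,0,0],⟨[4,4,4,0,0,16,8,8],⟨[4,4,8],[32,48],0,false,66,190⟩⟩),
  ([0,0,0,0,0,0,0,0],⟨[4,-4,4,0,0,4,-4,4],⟨[-4,4,4],[100,-500],0,false,117,139⟩⟩),
  ([0,0,0,0,0,0,0,0],⟨[4,-4,4,0,0,4,4,-4],⟨[4,-4,4],[100,500],0,false,117,139⟩⟩),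
  ([0,0,0,0,0,0,0,0],⟨[4,4,4,0,0,4,-4,-4],⟨[-4,-4,4],[676,-2028],0,false,93,163⟩⟩),
  ([0,0,0,0,0,0,0,0],⟨[4,4,4,0,0,4,4,4],⟨[-4,-4,-4],[-36,-108],0,false,115,77⟩⟩),
  ([0,0,0,0,0,0,0,0],⟨[4,4,4,0,0,0,0,0],⟨[-4,-4,0],[0,-768],0,false,104,88⟩⟩),
  ([0,0,0,0,0,0,0,0],⟨[2,4,4,2,0,18,6,12],⟨[2,4,6],[54,36],0,false,67,253⟩⟩),
  ([0,0,0,0,0,0,0,0],⟨[2,4,4,2,0,8,4,8],⟨[-2,-4,-4],[-16,-16],0,false,178,78⟩⟩),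
  ([0,0,0,0,0,0,0,0],⟨[2,-4,4,2,0,2,-2,4],⟨[-2,4,2],[2,-12],0,false,65,127⟩⟩),
  ([0,0,0,0,0,0,0,0],⟨[2,4,4,2,0,2,2,4],⟨[-2,-4,-2],[-98,-196],0,false,103,89⟩⟩),
  ([0,0,0,0,0,0,0,0],⟨[2,-4,4,2,0,0,0,0],⟨[2,-4,0],[0,192],0,false,116,76⟩⟩),
  ([0,0,0,0,0,0,0,0],⟨[2,4,4,2,0,0,0,0],⟨[-2,-4,0],[0,-576],0,false,92,100⟩⟩),
  ([0,0,0,0,0,0,0,0],⟨[1,4,4,2,4,9,3,12],⟨[-1,-4,-3],[-75,0],0,false,229,91⟩⟩),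
  ([0,0,0,0,0,0,0,0],⟨[1,4,4,2,4,4,2,8],⟨[-1,-4,-2],[-200,0],0,false,154,102⟩⟩),
  ([0,0,0,0,0,0,0,0],⟨[1,4,4,2,4,1,1,4],⟨[-1,-4,-1],[-225,0],0,false,79,113⟩⟩),
  ([0,0,0,0,0,0,0,0],⟨[0,0,4,0,0,16,0,8],⟨[0,4,8],[288,-144],0,false,118,202⟩⟩),
  ([0,0,0,0,0,0,0,0],⟨[0,0,4,2,4,9,0,12],⟨[0,-4,-3],[-3,4],0,false,241,79⟩⟩),
  ([0,0,0,0,0,0,0,0],⟨[0,0,4,2,0,8,0,8],⟨[0,4,4],[16,-16],0,false,66,190⟩⟩),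
  ([0,0,0,0,0,0,0,0],⟨[0,0,4,0,0,4,0,-4],⟨[0,-4,4],[324,324],0,false,105,151⟩⟩),
  ([0,0,0,0,0,0,0,0],⟨[0,0,4,0,0,4,0,4],⟨[0,4,4],[4,-4],0,false,65,127⟩⟩),
  ([0,0,0,0,0,0,0,0],⟨[0,0,4,2,4,4,0,8],⟨[0,-4,-2],[-72,144],0,false,166,90⟩⟩),
  ([0,0,0,0,0,0,0,0],⟨[0,0,4,2,0,2,0,-4],⟨[0,-4,2],[338,676],0,false,93,163⟩⟩),
  ([0,0,0,0,0,0,0,0],⟨[0,0,4,2,0,2,0,4],⟨[0,-4,-2],[-18,36],0,false,115,77⟩⟩),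
  ([0,0,0,0,0,0,0,0],⟨[0,0,4,2,4,1,0,4],⟨[0,-4,-1],[-121,484],0,false,91,101⟩⟩),
  ([0,0,0,0,0,0,0,0],⟨[0,0,4,0,0,0,0,0],⟨[0,-4,0],[0,64],0,false,116,76⟩⟩),
  ([0,0,0,0,0,0,0,0],⟨[0,0,4,2,0,0,0,0],⟨[0,-4,0],[0,256],0,false,104,88⟩⟩),
  ([0,0,0,0,0,0,0,0],⟨[0,0,4,2,4,0,0,0],⟨[0,-4,0],[0,1024],0,false,80,112⟩⟩),
  ([0,0,-1,0,0,0,0,0],⟨[4,0,0,0,0,1,2,0],⟨[-2,0,-1],[-9,-72],0,false,115,77⟩⟩),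
  ([0,0,-1,0,0,0,0,0],⟨[4,0,0,0,0,0,0,0],⟨[-2,0,0],[0,-512],0,false,104,88⟩⟩),
  ([0,0,-1,0,0,0,0,0],⟨[1,0,0,0,0,4,2,0],⟨[1,0,2],[72,144],0,false,118,202⟩⟩),
  ([0,0,-1,0,0,0,0,0],⟨[1,0,0,0,0,1,-1,0],⟨[-1,0,1],[81,-324],0,false,105,151⟩⟩),
  ([0,0,-1,0,0,0,0,0],⟨[1,0,0,0,0,1,1,0],⟨[1,0,1],[1,4],0,false,65,127⟩⟩),
  ([0,0,-1,0,0,0,0,0],⟨[1,0,0,0,0,0,0,0],⟨[-1,0,0],[0,-64],0,false,116,76⟩⟩),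
  ([-1,0,-1,0,0,0,0,0],⟨[0,0,0,0,0,4,0,0],⟨[0,0,2],[200,0],0,false,106,214⟩⟩),
  ([-1,0,-1,0,0,0,0,0],⟨[0,0,0,0,0,1,0,0],⟨[0,0,1],[25,0],0,false,117,139⟩⟩)]

def Λ15 : List (List ℤ) := [[0,0,1,0,0,0,0,0],[0,0,0,0,0,1,0,0],[1,0,0,0,0,0,0,0],[0,0,1,2,2,1,0,-2],[0,0,1,2,-2,0,0,0],[0,0,1,-2,0,0,0,0],[4,-8,4,8,8,1,-4,4],[4,4,1,2,2,1,-4,-2],[16,-8,1,2,2,0,0,0],[16,8,1,2,2,1,8,2]]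

def trs15 : List Tr :=
  [.br 5 (.br 6 (.leaf [0,-1,0] [1,0]) (.br 4 (.leaf [0,0,0] [20,10]) (.br 3 (.br 2 (.leaf [-112288,8475,0] [3557400,3557400]) (.br 0 (.leaf [0,0,0] [200,100]) (.br 1 (.leaf [0,0,0] [200,100]) (.br 3 (.leaf [0,1,-2] [236,118]) (.leaf [0,0,0] [0,10]))))) (.leaf [0,0,0] [0,1])))) (.leaf [0,0,0] [20,10]),
  .br 5 (.leaf [0,0,0] [0,10]) (.br 4 (.br 3 (.br 0 (.leaf [-47432,-23603,47432] [47432,47432]) (.br 3 (.br 5 (.leaf [4,1,-4] [885,-221]) (.leaf [0,0,0] [0,10])) (.leaf [0,0,0] [0,10]))) (.leaf [0,0,0] [0,1])) (.leaf [0,1,0] [408,408])),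
  .leaf [0,0,0] [200,100],
  .leaf [0,0,0] [0,10],
  .br 6 (.br 5 (.leaf [0,0,0] [0,10]) (.br 7 (.leaf [0,0,0] [20,10]) (.br 6 (.br 4 (.br 5 (.leaf [0,-1,0] [0,142]) (.leaf [0,0,0] [0,10])) (.leaf [0,1,0] [0,0])) (.leaf [0,0,0] [10,10])))) (.leaf [0,0,0] [10,10]),
  .br 5 (.br 3 (.leaf [0,0,0] [10,10]) (.br 6 (.leaf [0,0,0] [10,0]) (.leaf [0,1,-2] [90,90]))) (.leaf [0,0,0] [100,0]),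
  .br 4 (.br 1 (.leaf [0,0,0] [300,100]) (.br 0 (.leaf [-1,0,0] [32,32]) (.br 5 (.leaf [0,0,0] [-20,10]) (.br 2 (.leaf [0,0,0] [10,10]) (.leaf [-1,1,-1] [165,165]))))) (.leaf [0,0,0] [20,10]),
  .br 6 (.leaf [0,0,0] [0,10]) (.br 5 (.br 3 (.leaf [0,0,0] [0,10]) (.br 0 (.leaf [0,0,0] [1000,0]) (.br 1 (.br 2 (.br 5 (.br 4 (.leaf [0,1,0] [0,165]) (.br 6 (.br 0 (.leaf [0,0,0] [-10,0]) (.br 3 (.br 0 (.leaf [0,-1,0] [-706,0]) (.br 0 (.leaf [0,-1,0] [-869,0]) (.br 1 (.leaf [5889,4445,-5889] [733552,733552]) (.br 1 (.leaf [5889,4445,-5889] [733552,733552]) (.leaf [0,-1,0] [508,508]))))) (.leaf [0,0,0] [0,100]))) (.leaf [0,0,0] [0,100]))) (.leaf [0,0,0] [10,10])) (.leaf [-1517851,371315,-371315] [61277584,61277584])) (.leaf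 [0,0,0] [0,100])))) (.leaf [0,0,0] [10,10])),
  .br 9 (.leaf [0,0,0] [0,10]) (.br 8 (.br 6 (.leaf [0,0,0] [0,10]) (.br 4 (.br 5 (.br 8 (.br 7 (.leaf [0,1,0] [0,245]) (.br 9 (.br 6 (.br 4 (.leaf [0,-1,0] [0,-929]) (.br 4 (.br 5 (.leaf [-1,0,0] [53,53]) (.br 7 (.br 5 (.leaf [-1889166,371315,0] [61277584,61277584]) (.br 5 (.leaf [-1606142,371315,0] [0,61277584]) (.br 5 (.leaf [-983869,-249075,0] [0,130644900]) (.br 5 (.leaf [-983869,-249075,0] [0,130644900]) (.br 5 (.leaf [8193532,-6077225,0] [0,3187628033]) (.leaf [508,-449,0] [0,0])))))) (.leaf [0,-1,0] [0,0]))) (.leaf [0,-1,0] [0,142]))) (.leaf [0,0,0] [0,100])) (.leaf [0,0,0] [0,100]))) (.leaf [0,0,0] [10,10])) (.leaf [-1,0,0] [53,53])) (.leaf [0,0,0] [0,100]))) (.leaf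 [0,0,0] [10,10])),
  .leaf [0,0,0] [30,10]]

theorem ok15 : (valid ts15 && ts15.all (fun x => decide (0 < dot [1,0,1,0,0,1,0,0] x.2.inv) && Λ15.all fun l => decide (0 ≤ dot l x.2.inv)) &&
    go Λ15 [1,0,1,0,0,1,0,0] (fun acc => trs15.any fun t => check 64 [1,0,1] [1,4] t acc) 40 ts15 [4,4,20,2,4,15,3,16] []) = true := by
  decide +kernel

end Cfsg.Lib.R2.Chk
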